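import Groth.Agent.Lib.GrpClass19.Locus
import Groth.Agent.Lib.SchDense.Basic

/-!
# Iterated commutator words with flat sources; spreading triviality from a dense fibre
-/

universe u
set_option autoImplicit false
set_option linter.style.haveILetI false
open CategoryTheory CategoryTheory.Limits AlgebraicGeometry MonoidalCategory CartesianMonoidalCategory MonObj GrpObj
open scoped commutatorElement

namespace GrothLib.FlatWord19

open GrpClass19

variable {S : Scheme.{u}}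

theorem flat_tensor {P Q : Over S} (hP : Flat P.hom) (hQ : Flat Q.hom) : Flat (P ⊗ Q).hom := by
  rw [Over.tensorObj_hom]; infer_instance

variable (G : Over S) [GrpObj G] [Flat G.hom]

theorem exists_derivedWord (n : ℕ) : ∃ (P : Over S) (w : P ⟶ G), Flat P.hom ∧
    ∀ T : Over S, derivedSeries (T ⟶ G) n = Subgroup.closure (Set.range fun x : T ⟶ P => x ≫ w) ∧
      ∀ (g : T ⟶ G) (x : T ⟶ P), ∃ y : T ⟶ P, g * (x ≫ w) * g⁻¹ = y ≫ w := by
  induction n with
  | zero =>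
    refine ⟨G, 𝟙 G, inferInstance, fun T => ⟨?_, fun g x => ⟨g * x * g⁻¹, by simp only [Category.comp_id]⟩⟩⟩
    simp
  | succ m ih =>
    obtain ⟨P, w, hP, h⟩ := ih
    refine ⟨P ⊗ P, ⁅fst P P ≫ w, snd P P ≫ w⁆, flat_tensor hP hP, fun T => ?_⟩
    have hval : ∀ x : T ⟶ P ⊗ P, x ≫ ⁅fst P P ≫ w, snd P P ≫ w⁆ = ⁅(x ≫ fst P P) ≫ w, (x ≫ snd P P) ≫ w⁆ := by
      intro x
      simp only [commutatorElement_def, MonObj.comp_mul, GrpObj.comp_inv, Category.assoc]
    obtain ⟨hS, hconj⟩ := h T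
    have hconj' : ∀ (g : T ⟶ G) (x : T ⟶ P ⊗ P), ∃ y : T ⟶ P ⊗ P,
        g * (x ≫ ⁅fst P P ≫ w, snd P P ≫ w⁆) * g⁻¹ = y ≫ ⁅fst P P ≫ w, snd P P ≫ w⁆ := by
      intro g x
      obtain ⟨y₁, h₁⟩ := hconj g (x ≫ fst P P)
      obtain ⟨y₂, h₂⟩ := hconj g (x ≫ snd P P)
      refine ⟨lift y₁ y₂, ?_⟩
      rw [hval, hval, comm_conj, h₁, h₂, lift_fst, lift_snd]
    refine ⟨le_antisymm ?_ ?_, hconj'⟩
    · rw [derivedSeries_succ, hS]
      haveI := normal_of (Set.range fun x : T ⟶ P ⊗ P => x ≫ ⁅fst P P ≫ w, snd P P ≫ w⁆) (by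
        rintro g _ ⟨x, rfl⟩
        obtain ⟨y, hy⟩ := hconj' g x
        exact ⟨y, hy.symm⟩)
      refine closure_comm _ _ _ ?_
      rintro _ ⟨x₁, rfl⟩ _ ⟨x₂, rfl⟩
      exact ⟨lift x₁ x₂, by simp only [hval, lift_fst, lift_snd]⟩
    · rw [Subgroup.closure_le]
      rintro _ ⟨x, rfl⟩
      simp only [hval, derivedSeries_succ, hS, SetLike.mem_coe]
      exact Subgroup.commutator_mem_commutator (Subgroup.subset_closure ⟨_, rfl⟩) (Subgroup.subset_closure ⟨_, rfl⟩)

theorem exists_lowerWord (n : ℕ) : ∃ (P : Over S) (w : P ⟶ G), Flat P.hom ∧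
    ∀ T : Over S, (⊤ : Subgroup (T ⟶ G)).lowerCentralSeries n = Subgroup.closure (Set.range fun x : T ⟶ P => x ≫ w) ∧
      ∀ (g : T ⟶ G) (x : T ⟶ P), ∃ y : T ⟶ P, g * (x ≫ w) * g⁻¹ = y ≫ w := by
  induction n with
  | zero =>
    refine ⟨G, 𝟙 G, inferInstance, fun T => ⟨?_, fun g x => ⟨g * x * g⁻¹, by simp only [Category.comp_id]⟩⟩⟩
    simp
  | succ m ih =>
    obtain ⟨P, w, hP, h⟩ := ih
    refine ⟨P ⊗ G, ⁅fst P G ≫ w, snd P G⁆, flat_tensor hP inferInstance, fun T => ?_⟩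
    have hval : ∀ x : T ⟶ P ⊗ G, x ≫ ⁅fst P G ≫ w, snd P G⁆ = ⁅(x ≫ fst P G) ≫ w, x ≫ snd P G⁆ := by
      intro x
      simp only [commutatorElement_def, MonObj.comp_mul, GrpObj.comp_inv, Category.assoc]
    obtain ⟨hS, hconj⟩ := h T
    have hconj' : ∀ (g : T ⟶ G) (x : T ⟶ P ⊗ G), ∃ y : T ⟶ P ⊗ G,
        g * (x ≫ ⁅fst P G ≫ w, snd P G⁆) * g⁻¹ = y ≫ ⁅fst P G ≫ w, snd P G⁆ := by
      intro g x
      obtain ⟨y₁, h₁⟩ := hconj g (x ≫ fst P G)
      refine ⟨lift y₁ (g * (x ≫ snd P G) * g⁻¹), ?_⟩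
      rw [hval, hval, comm_conj, h₁, lift_fst, lift_snd]
    refine ⟨le_antisymm ?_ ?_, hconj'⟩
    · rw [Subgroup.lowerCentralSeries_succ, hS, ← Subgroup.closure_univ (G := T ⟶ G)]
      haveI := normal_of (Set.range fun x : T ⟶ P ⊗ G => x ≫ ⁅fst P G ≫ w, snd P G⁆) (by
        rintro g _ ⟨x, rfl⟩
        obtain ⟨y, hy⟩ := hconj' g x
        exact ⟨y, hy.symm⟩)
      refine closure_comm _ _ _ ?_
      rintro _ ⟨x₁, rfl⟩ b -
      exact ⟨lift x₁ b, by simp only [hval, lift_fst, lift_snd]⟩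
    · rw [Subgroup.closure_le]
      rintro _ ⟨x, rfl⟩
      simp only [hval, Subgroup.lowerCentralSeries_succ, hS, SetLike.mem_coe]
      exact Subgroup.commutator_mem_commutator (Subgroup.subset_closure ⟨_, rfl⟩) (Subgroup.mem_top _)

omit [Flat G.hom] in
theorem closure_range_eq_bot {T P : Over S} (w : P ⟶ G) :
    Subgroup.closure (Set.range fun x : T ⟶ P => x ≫ w) = ⊥ ↔ ∀ x : T ⟶ P, x ≫ w = 1 := by
  rw [Subgroup.closure_eq_bot_iff, Set.range_subset_iff]
  rfl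

omit [Flat G.hom] in
/-- A word vanishes everywhere if it does on a scheme-theoretically dense base change. -/
theorem word_eq_one [IsSeparated G.hom] {U : Scheme.{u}} (j : U ⟶ S) [IsSchemeTheoreticallyDominant j]
    [QuasiCompact j] {P : Over S} [Flat P.hom] (w : P ⟶ G)
    (h : ∀ x : (Over.map j).obj (Over.mk (pullback.snd P.hom j)) ⟶ P, x ≫ w = 1) : w = 1 := by
  let x : (Over.map j).obj (Over.mk (pullback.snd P.hom j)) ⟶ P :=
    Over.homMk (pullback.fst P.hom j) pullback.condition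
  have h1 : x ≫ w = x ≫ 1 := by rw [h x, MonObj.comp_one]
  refine Over.OverMorphism.ext ?_
  exact GrothLib.SchDense.ext_of_schDominant G.hom ((Over.w w).trans (Over.w (1 : P ⟶ G)).symm)
    (pullback.fst P.hom j) (congrArg CommaMorphism.left h1)

/-- Triviality of derived and lower central series spreads out from a dense base change to all points. -/
theorem series_eq_bot [IsSeparated G.hom] {U : Scheme.{u}} (j : U ⟶ S) [IsSchemeTheoreticallyDominant j]
    [QuasiCompact j] (n : ℕ) :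
    ((∀ T : Over U, derivedSeries (T ⟶ Red.bc j G) n = ⊥) → ∀ T : Over S, derivedSeries (T ⟶ G) n = ⊥) ∧
    ((∀ T : Over U, (⊤ : Subgroup (T ⟶ Red.bc j G)).lowerCentralSeries n = ⊥) →
      ∀ T : Over S, (⊤ : Subgroup (T ⟶ G)).lowerCentralSeries n = ⊥) := by
  refine ⟨fun h T => ?_, fun h T => ?_⟩
  · obtain ⟨P, w, hP, hw⟩ := exists_derivedWord G n
    rw [(hw T).1, closure_range_eq_bot G w]
    have hw1 : w = 1 := word_eq_one G j w (fun x => by
      refine (closure_range_eq_bot G w).mp ?_ x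
      rw [← (hw _).1, derived_congr (GrothLib.DiagGrp.bcPointMulEquiv j G _)]
      exact h _)
    intro x
    rw [hw1, MonObj.comp_one]
  · obtain ⟨P, w, hP, hw⟩ := exists_lowerWord G n
    rw [(hw T).1, closure_range_eq_bot G w]
    have hw1 : w = 1 := word_eq_one G j w (fun x => by
      refine (closure_range_eq_bot G w).mp ?_ x
      rw [← (hw _).1, lower_congr (GrothLib.DiagGrp.bcPointMulEquiv j G _)]
      exact h _)
    intro x
    rw [hw1, MonObj.comp_one]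

end GrothLib.FlatWord19
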